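import Mathlib.AlgebraicTopology.CechNerve
import Mathlib.AlgebraicTopology.AlternatingFaceMapComplex
import Mathlib.Algebra.Category.Ring.Colimits
import Mathlib.Algebra.Category.Ring.Constructions
import Mathlib.Algebra.Homology.ShortComplex.Ab
import Mathlib.Algebra.Homology.ShortComplex.HomologicalComplex
import Mathlib.Algebra.Category.Grp.Preadditive
import Mathlib.RingTheory.Flat.FaithfullyFlat.Algebra
import Mathlib.RingTheory.TensorProduct.Maps
import Mathlib.Algebra.Category.Grp.ForgetCorepresentable

/-!
# The Amitsur complex as the Čech conerve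
-/

universe u

set_option autoImplicit false
set_option backward.isDefEq.respectTransparency false
set_option backward.isDefEq.respectTransparency.types false

open CategoryTheory CategoryTheory.Limits TensorProduct Simplicial

namespace Groth.Agent.AmitsurCech12

variable (R A : Type u) [CommRing R] [CommRing A] [Algebra R A]

/-- The structure map. -/
abbrev str : CommRingCat.of R ⟶ CommRingCat.of A := CommRingCat.ofHom (algebraMap R A)

/-- The tensor powers. -/
noncomputable abbrev T (n : ℕ) : CommRingCat.{u} :=
  widePushout (CommRingCat.of R) (fun _ : Fin (n + 1) => CommRingCat.of A) (fun _ => str R A)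

noncomputable instance algT (n : ℕ) : Algebra R (T R A n) :=
  (WidePushout.head (B := CommRingCat.of R) (fun _ : Fin (n + 1) => str R A)).hom.toAlgebra

/-- The inclusion of a factor. -/
noncomputable def leg (n : ℕ) (i : Fin (n + 1)) : A →ₐ[R] T R A n :=
  { (WidePushout.ι (fun _ : Fin (n + 1) => str R A) i).hom with
    commutes' := fun r => RingHom.congr_fun (congrArg CommRingCat.Hom.hom
      (WidePushout.arrow_ι (fun _ : Fin (n + 1) => str R A) i)) r }

variable {R A} in
theorem algHom_ext {n : ℕ} {S : Type u} [CommRing S] [Algebra R S] {φ ψ : T R A n →ₐ[R] S}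
    (h : ∀ i a, φ (leg R A n i a) = ψ (leg R A n i a)) : φ = ψ := by
  have : CommRingCat.ofHom φ.toRingHom = CommRingCat.ofHom ψ.toRingHom := by
    refine WidePushout.hom_ext _ _ _ (fun i => CommRingCat.hom_ext (RingHom.ext fun a => h i a)) ?_
    exact CommRingCat.hom_ext (RingHom.ext fun r => (φ.commutes r).trans (ψ.commutes r).symm)
  exact AlgHom.ext fun x => RingHom.congr_fun (congrArg CommRingCat.Hom.hom this) x

variable {R A} in
/-- The universal property. -/
noncomputable def lift {n : ℕ} {S : Type u} [CommRing S] [Algebra R S] (φ : Fin (n + 1) → (A →ₐ[R] S)) :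
    T R A n →ₐ[R] S :=
  { (WidePushout.desc (X := CommRingCat.of S) (CommRingCat.ofHom (algebraMap R S))
      (fun i => CommRingCat.ofHom (φ i).toRingHom)
      (fun i => CommRingCat.hom_ext (RingHom.ext fun r => (φ i).commutes r))).hom with
    commutes' := fun r => RingHom.congr_fun (congrArg CommRingCat.Hom.hom
      (WidePushout.head_desc (X := CommRingCat.of S) (fun _ : Fin (n + 1) => str R A)
        (CommRingCat.ofHom (algebraMap R S))
      (fun i => CommRingCat.ofHom (φ i).toRingHom)
      (fun i => CommRingCat.hom_ext (RingHom.ext fun r => (φ i).commutes r)))) r }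

variable {R A} in
@[simp] theorem lift_leg {n : ℕ} {S : Type u} [CommRing S] [Algebra R S] (φ : Fin (n + 1) → (A →ₐ[R] S))
    (i : Fin (n + 1)) (a : A) : lift φ (leg R A n i a) = φ i a :=
  RingHom.congr_fun (congrArg CommRingCat.Hom.hom
      (WidePushout.ι_desc (X := CommRingCat.of S) (fun _ : Fin (n + 1) => str R A)
        (CommRingCat.ofHom (algebraMap R S))
      (fun i => CommRingCat.ofHom (φ i).toRingHom)
      (fun i => CommRingCat.hom_ext (RingHom.ext fun r => (φ i).commutes r)) i)) a

/-- The cofaces. -/
noncomputable def cof (n : ℕ) (j : Fin (n + 2)) : T R A n →ₐ[R] T R A (n + 1) :=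
  lift fun i => leg R A (n + 1) (j.succAbove i)

/-- The section after base change. -/
noncomputable def sec (n : ℕ) : T R A (n + 1) →ₐ[R] A ⊗[R] T R A n :=
  lift (Fin.cases Algebra.TensorProduct.includeLeft
    fun k => Algebra.TensorProduct.includeRight.comp (leg R A n k))

theorem sec_cof_zero (n : ℕ) (x : T R A n) : sec R A n (cof R A n 0 x) = 1 ⊗ₜ x := by
  have : (sec R A n).comp (cof R A n 0) = Algebra.TensorProduct.includeRight :=
    algHom_ext fun i a => by simp [cof, sec]
  exact AlgHom.congr_fun this x

theorem sec_cof_succ (n : ℕ) (j : Fin (n + 2)) (x : T R A (n + 1)) :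
    sec R A (n + 1) (cof R A (n + 1) j.succ x) =
      Algebra.TensorProduct.map (AlgHom.id R A) (cof R A n j) (sec R A n x) := by
  have : (sec R A (n + 1)).comp (cof R A (n + 1) j.succ) =
      (Algebra.TensorProduct.map (AlgHom.id R A) (cof R A n j)).comp (sec R A n) :=
    algHom_ext fun i a => by
      induction i using Fin.cases with
      | zero => simp [cof, sec]
      | succ k => simp [cof, sec]
  exact AlgHom.congr_fun this x

/-- The differential. -/
noncomputable def diff (n : ℕ) : T R A n →ₗ[R] T R A (n + 1) :=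
  ∑ j : Fin (n + 2), (-1 : ℤ) ^ (j : ℕ) • (cof R A n j).toLinearMap

theorem mem_range_diff [Module.FaithfullyFlat R A] (n : ℕ) (x : T R A (n + 1))
    (hx : diff R A (n + 1) x = 0) : x ∈ LinearMap.range (diff R A n) := by
  have h1 : (diff R A n).lTensor A (sec R A n x) = 1 ⊗ₜ x := by
    have h0 : ∑ i : Fin (n + 3), (-1 : ℤ) ^ (i : ℕ) • sec R A (n + 1) (cof R A (n + 1) i x) = 0 := by
      have h00 := congrArg (sec R A (n + 1)).toLinearMap hx
      simp only [diff, LinearMap.coe_sum, Finset.sum_apply, LinearMap.smul_apply, map_sum, map_zsmul,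
        map_zero] at h00
      exact h00
    rw [Fin.sum_univ_succ] at h0
    rw [sec_cof_zero] at h0
    simp only [sec_cof_succ, Fin.val_zero, pow_zero, one_smul, Fin.val_succ, pow_succ, mul_neg,
      mul_one, neg_smul, Finset.sum_neg_distrib, add_neg_eq_zero] at h0
    rw [h0]
    simp only [diff, ← LinearMap.coe_lTensorHom, map_sum, map_zsmul, LinearMap.sum_apply,
      LinearMap.smul_apply]
    rfl
  let π : T R A (n + 1) →ₗ[R] T R A (n + 1) ⧸ LinearMap.range (diff R A n) := Submodule.mkQ _
  have h2 : (1 : A) ⊗ₜ[R] π x = 0 := by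
    rw [← LinearMap.lTensor_tmul, ← h1, ← LinearMap.comp_apply, ← LinearMap.lTensor_comp,
      show π.comp (diff R A n) = 0 from LinearMap.range_mkQ_comp (diff R A n), LinearMap.lTensor_zero,
      LinearMap.zero_apply]
  exact (Submodule.Quotient.mk_eq_zero _).1
    (Module.FaithfullyFlat.tensorProduct_mk_injective (A := R) (B := A)
      (T R A (n + 1) ⧸ LinearMap.range (diff R A n)) (h2.trans (tmul_zero _ _).symm))

/-- The conerve in abelian groups. -/
noncomputable abbrev conerve : CosimplicialObject AddCommGrpCat.{u} :=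
  (Arrow.mk (str R A)).cechConerve ⋙ forget₂ CommRingCat RingCat ⋙ forget₂ RingCat AddCommGrpCat

theorem δ_apply (n : ℕ) (j : Fin (n + 2)) (x : T R A n) :
    ((conerve R A).δ j).hom x = cof R A n j x := by
  have h : ((Arrow.mk (str R A)).cechConerve.δ j : T R A n ⟶ T R A (n + 1)) =
      CommRingCat.ofHom (cof R A n j).toRingHom := by
    refine WidePushout.hom_ext _ _ _ (fun i => CommRingCat.hom_ext (RingHom.ext fun a => ?_)) ?_
    · refine (RingHom.congr_fun (congrArg CommRingCat.Hom.hom (WidePushout.ι_desc
        (fun _ : Fin (n + 1) => str R A) _ _ _ i)) a).trans ?_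
      exact (lift_leg (fun i => leg R A (n + 1) (j.succAbove i)) i a).symm
    · refine (WidePushout.head_desc (fun _ : Fin (n + 1) => str R A) _ _ _).trans ?_
      exact CommRingCat.hom_ext (RingHom.ext fun r => ((cof R A n j).commutes r).symm)
  exact RingHom.congr_fun (congrArg CommRingCat.Hom.hom h) x

theorem objD_apply (n : ℕ) (x : T R A n) :
    (AlgebraicTopology.AlternatingCofaceMapComplex.objD (conerve R A) n).hom x = diff R A n x := by
  simp only [AlgebraicTopology.AlternatingCofaceMapComplex.objD, diff, LinearMap.sum_apply,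
    LinearMap.smul_apply]
  rw [show (∑ i : Fin (n + 2), (-1 : ℤ) ^ (i : ℕ) • (conerve R A).δ i).hom =
      ∑ i : Fin (n + 2), ((-1 : ℤ) ^ (i : ℕ) • (conerve R A).δ i).hom from
    map_sum AddCommGrpCat.homAddEquiv _ _]
  simp only [AddMonoidHom.finsetSum_apply, AddCommGrpCat.hom_zsmul]
  exact Finset.sum_congr rfl fun j _ => congrArg (fun z : T R A (n + 1) => (-1 : ℤ) ^ (j : ℕ) • z) (δ_apply R A n j x)

theorem exactAt [Module.FaithfullyFlat R A] (n : ℕ) (hn : 0 < n) :
    (AlgebraicTopology.AlternatingCofaceMapComplex.obj (conerve R A)).ExactAt n := by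
  obtain ⟨m, rfl⟩ := Nat.exists_eq_succ_of_ne_zero hn.ne'
  rw [HomologicalComplex.exactAt_iff' _ m (m + 1) (m + 2) (by simp) (by simp),
    ShortComplex.ab_exact_iff]
  intro x hx
  have hd : ∀ k, (AlgebraicTopology.AlternatingCofaceMapComplex.obj (conerve R A)).d k (k + 1) =
      AlgebraicTopology.AlternatingCofaceMapComplex.objD (conerve R A) k :=
    fun k => by
      show CochainComplex.of.d (fun n => (conerve R A).obj (SimplexCategory.mk n))
        (AlgebraicTopology.AlternatingCofaceMapComplex.objD (conerve R A)) k (k + 1) = _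
      exact CochainComplex.of_d _ _ k
  have hx' : diff R A (m + 1) x = 0 := by
    rw [← objD_apply, ← hd]
    exact hx
  obtain ⟨y, hy⟩ := mem_range_diff R A m x hx'
  refine ⟨y, ?_⟩
  show (AlgebraicTopology.AlternatingCofaceMapComplex.obj (conerve R A)).d m (m + 1) y = x
  rw [hd]
  exact (objD_apply R A m y).trans hy

end Groth.Agent.AmitsurCech12
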